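import Cfsg.Agent.ThreePrime72.Defs

/-!
# Simple groups of order prime to three: the centralizer of a bad involution

If `A` centralizes the bad involution `t`, the elements of `N(A)` centralizing `t` are transitive on
`A#`; a bad involution of `M` is conjugate in `M` to one centralized by `A`.
-/

set_option autoImplicit false

namespace Cfsg.Agent.ThreePrime10

open Subgroup ThreePrime72 ThreePrime74

universe u

section

variable {G : Type u} [Group G]

theorem smul_coset_eq_iff (t g : G) (M : Subgroup G) :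
    t • (g : G ⧸ M) = (g : G ⧸ M) ↔ g⁻¹ * t * g ∈ M := by
  rw [MulAction.Quotient.smul_mk, QuotientGroup.eq, ← inv_mem_iff]
  simp [smul_eq_mul, mul_assoc]

theorem map_conj_centralizer (g t : G) :
    (centralizer ({t} : Set G)).map (MulAut.conj g).toMonoidHom =
      centralizer ({g * t * g⁻¹} : Set G) := by
  ext x
  simp only [mem_map, MulEquiv.coe_toMonoidHom, MulAut.conj_apply, mem_centralizer_singleton_iff]
  constructor
  · rintro ⟨y, hy, rfl⟩
    calc g * y * g⁻¹ * (g * t * g⁻¹) = g * (y * t) * g⁻¹ := by group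
      _ = g * t * g⁻¹ * (g * y * g⁻¹) := by rw [hy]; group
  · intro hx
    refine ⟨g⁻¹ * x * g, ?_, by group⟩
    calc g⁻¹ * x * g * t = g⁻¹ * (x * (g * t * g⁻¹)) * g := by group
      _ = t * (g⁻¹ * x * g) := by rw [hx]; group

variable [Finite G]

omit [Finite G] in
/-- A `2`-subgroup of `X` lies in a Sylow `2`-subgroup of `X`. -/
theorem exists_sylow_le {P X : Subgroup G} (hP : IsPGroup 2 ↥P) (hPX : P ≤ X) :
    ∃ T : Sylow 2 ↥X, P ≤ (T : Subgroup ↥X).map X.subtype := by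
  have h : IsPGroup 2 ↥(P.subgroupOf X) := hP.comap_of_injective X.subtype X.subtype_injective
  obtain ⟨T, hT⟩ := h.exists_le_sylow
  refine ⟨T, fun x hx => ⟨⟨x, hPX hx⟩, hT hx, rfl⟩⟩

/-- A `2`-subgroup containing `A` normalizes it. -/
theorem le_normalizer_of_two {S : Sylow 2 G} {A : Subgroup G} (hc : ThreePrime24.Control S A)
    {P : Subgroup G} (hP : IsPGroup 2 ↥P) (hA : A ≤ P) : P ≤ normalizer (A : Set G) := by
  have : Fact (Nat.Prime 2) := ⟨Nat.prime_two⟩
  obtain ⟨Q, hQ⟩ := hP.exists_le_sylow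
  obtain ⟨g, hg⟩ := MulAction.exists_smul_eq G Q S
  have hS : ∀ x ∈ P, g * x * g⁻¹ ∈ (S : Subgroup G) := by
    intro x hx
    rw [← hg, Sylow.coe_subgroup_smul]
    exact smul_mem_pointwise_smul x (MulAut.conj g) _ (hQ hx)
  have hgA : g ∈ normalizer (A : Set G) :=
    ThreePrime24.mem_normalizer_of_conj_le hc.sc fun a ha => hS a (hA ha)
  intro x hx
  have h := mul_mem (mul_mem (inv_mem hgA) (hc.sylow_le (hS x hx))) hgA
  rwa [show g⁻¹ * (g * x * g⁻¹) * g = x by group] at h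

/-- A conjugate of an element has a Sylow subgroup of its centralizer inside `S`. -/
theorem exists_conj_sylow (S : Sylow 2 G) {t : G} (ht : t * t = 1) :
    ∃ g : G, g * t * g⁻¹ ∈ (S : Subgroup G) ∧
      ∃ T : Sylow 2 ↥(centralizer ({g * t * g⁻¹} : Set G)),
        (T : Subgroup ↥(centralizer ({g * t * g⁻¹} : Set G))).map
          (centralizer ({g * t * g⁻¹} : Set G)).subtype =
          (S : Subgroup G) ⊓ centralizer ({g * t * g⁻¹} : Set G) := by
  have : Fact (Nat.Prime 2) := ⟨Nat.prime_two⟩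
  set X : Subgroup G := centralizer ({t} : Set G) with hX
  have htX : t ∈ X := mem_centralizer_singleton_iff.2 rfl
  have hz : IsPGroup 2 ↥(zpowers (⟨t, htX⟩ : ↥X)) := by
    intro z
    refine ⟨1, Subtype.ext ?_⟩
    obtain ⟨i, hi⟩ := mem_zpowers_iff.1 z.2
    show ((z : ↥X)) ^ 2 ^ 1 = 1
    rw [← hi, pow_one, ← zpow_natCast, ← zpow_mul, mul_comm, zpow_mul]
    have h2 : (⟨t, htX⟩ : ↥X) ^ ((2 : ℕ) : ℤ) = 1 := by
      rw [zpow_natCast]
      exact Subtype.ext ((sq t).trans ht)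
    rw [h2, one_zpow]
  obtain ⟨P, hP⟩ := hz.exists_le_sylow
  obtain ⟨Q, hQ⟩ := (P.2.map X.subtype).exists_le_sylow
  obtain ⟨g, hg⟩ := MulAction.exists_smul_eq G Q S
  have hS : ∀ x ∈ (P : Subgroup ↥X), g * (x : G) * g⁻¹ ∈ (S : Subgroup G) := by
    intro x hx
    rw [← hg, Sylow.coe_subgroup_smul]
    exact smul_mem_pointwise_smul (x : G) (MulAut.conj g) _ (hQ ⟨x, hx, rfl⟩)
  refine ⟨g, hS _ (hP (mem_zpowers _)), ?_⟩
  set X' : Subgroup G := centralizer ({g * t * g⁻¹} : Set G) with hX'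
  have hmap : X.map (MulAut.conj g).toMonoidHom = X' := map_conj_centralizer g t
  obtain ⟨T, hT⟩ := exists_sylow_le (X := X') (S.2.to_inf_left (K := X')) inf_le_right
  refine ⟨T, (eq_of_le_of_card_ge hT ?_).symm⟩
  have h1 : ((P : Subgroup ↥X).map X.subtype).map (MulAut.conj g).toMonoidHom ≤
      (S : Subgroup G) ⊓ X' := by
    rintro _ ⟨_, ⟨x, hx, rfl⟩, rfl⟩
    refine ⟨hS x hx, ?_⟩
    rw [SetLike.mem_coe, ← hmap]
    exact ⟨x, x.2, rfl⟩
  refine le_trans (le_of_eq ?_) (card_le_of_le h1)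
  rw [card_map_of_injective X'.subtype_injective,
    card_map_of_injective (f := (MulAut.conj g).toMonoidHom) (MulAut.conj g).injective,
    card_map_of_injective X.subtype_injective, T.card_eq_multiplicity, P.card_eq_multiplicity]
  have h2 : Nat.card ↥X' = Nat.card ↥X := by
    rw [← hmap]
    exact card_map_of_injective (f := (MulAut.conj g).toMonoidHom) (MulAut.conj g).injective
  rw [h2]

end

/-- Piece BadLocal. -/
theorem badLocal (hmoved : XMovedStmt.{u}) (hfix : FixTransStmt.{u}) : BadLocalStmt.{u} := by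
  intro G _ _ hG S A M hM
  have : Fact (Nat.Prime 2) := ⟨Nat.prime_two⟩
  obtain ⟨htr, hone, hmov, ⟨e, heodd, he3, hcardA⟩, -⟩ := hfix G hG S A M hM
  have hc := hM.ctl
  have hAM : A ≤ M := le_normalizer.trans hM.nle
  have hSM : (S : Subgroup G) ≤ M := hc.sylow_le.trans hM.nle
  have hbase : ∀ t : G, t ∈ M → t • ((1 : G) : G ⧸ M) = ((1 : G) : G ⧸ M) := fun t ht =>
    (smul_coset_eq_iff t 1 M).2 (by simpa using ht)
  -- the centralizer of a bad involution of `M`
  have hX : ∀ t : G, BadInv (G ⧸ M) t → t ∈ M →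
      centralizer ({t} : Set G) ≠ ⊤ ∧ ¬ centralizer ({t} : Set G) ≤ M := by
    rintro t ⟨ht1, ht2, c, d, hcd, hc', hd'⟩ htM
    refine ⟨fun htop => ?_, fun hle => ?_⟩
    · obtain ⟨b, hb⟩ := hmov t ht1
      obtain ⟨g, rfl⟩ := QuotientGroup.mk_surjective b
      refine hb ((smul_coset_eq_iff t g M).2 ?_)
      have h : g * t = t * g := mem_centralizer_singleton_iff.1 (htop ▸ mem_top g)
      rwa [mul_assoc, ← h, inv_mul_cancel_left]
    · have : ∀ b : G ⧸ M, t • b = b → b = ((1 : G) : G ⧸ M) := by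
        intro b hb
        obtain ⟨g, hgt, hgb⟩ := htr t ht1 ht2 _ b (hbase t htM) hb
        rw [← hgb]
        exact hbase g (hle (mem_centralizer_singleton_iff.2 hgt))
      exact hcd ((this c hc').trans (this d hd').symm)
  have hmemA : ∀ t : G, A ≤ centralizer ({t} : Set G) → t ∈ M := by
    intro t hAt
    obtain ⟨a, haA, ha1⟩ : ∃ a ∈ A, a ≠ 1 := by
      refine (bot_or_exists_ne_one A).resolve_left fun h => ?_
      have := hM.big
      rw [h, card_bot] at this
      omega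
    have hcomm : a * t = t * a := mem_centralizer_singleton_iff.1 (hAt haA)
    have h := hone a haA ha1 (t • ((1 : G) : G ⧸ M))
      (by rw [smul_smul, hcomm, ← smul_smul, hbase a (hAM haA)])
    simpa using (smul_coset_eq_iff t 1 M).1 h
  have part1 : ∀ t : G, BadInv (G ⧸ M) t → A ≤ centralizer ({t} : Set G) →
      t ∈ M ∧ ¬ centralizer ({t} : Set G) ≤ M ∧
      ∀ x ∈ A, x ≠ 1 → ∀ y ∈ A, y ≠ 1 → ∃ g ∈ normalizer (A : Set G),
        g * t = t * g ∧ g * x * g⁻¹ = y := by
    intro t ht hAt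
    have htM := hmemA t hAt
    obtain ⟨htop, hnle⟩ := hX t ht htM
    refine ⟨htM, hnle, fun x hx hx1 y hy hy1 => ?_⟩
    have hA2 : IsPGroup 2 ↥A := S.2.to_le hc.sc.1
    obtain ⟨T, hT⟩ := exists_sylow_le hA2 hAt
    have hinf : A ⊓ centralizer ({t} : Set G) = A := inf_eq_left.2 hAt
    have h8 := hM.big
    obtain ⟨-, htrans⟩ := hmoved G hG S A M hM _ htop hnle (by rw [hinf]; omega)
      ⟨T, le_normalizer_of_two hc (T.2.map _) hT, by rw [hinf]; exact hT⟩
    rw [hinf] at htrans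
    obtain ⟨g, hgX, hgN, hgxy⟩ := htrans x hx hx1 y hy hy1
    exact ⟨g, hgN, mem_centralizer_singleton_iff.1 hgX, hgxy⟩
  refine ⟨part1, fun t ht htM => ?_⟩
  -- move `t` so that a Sylow subgroup of its centralizer lies in `S`
  obtain ⟨h, hhS, hT'⟩ := exists_conj_sylow S ht.2.1
  have hb : BadInv (G ⧸ M) (h * t * h⁻¹) := ht.conj h
  set s : G := h * t * h⁻¹ with hs
  obtain ⟨T, hT⟩ := hT'
  have hsM : s ∈ M := hSM hhS
  obtain ⟨htop, hnle⟩ := hX s hb hsM
  have hsq : ∀ a ∈ A, a * a = 1 := fun a ha => (sq a).symm.trans (hM.elem.2 a ha)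
  have hsN : s ∈ normalizer (A : Set G) := hc.sylow_le hhS
  have := hM.elem.1
  have hcom : ∀ a ∈ A, ∀ b ∈ A, a * b = b * a := fun a ha b hb =>
    congrArg Subtype.val (mul_comm' (⟨a, ha⟩ : ↥A) ⟨b, hb⟩)
  have hsA : ∀ a ∈ A, s * a * s⁻¹ ∈ A := fun a ha => (mem_normalizer_iff.1 hsN a).1 ha
  let d : ↥A →* G :=
    { toFun := fun a => s * (a : G) * s⁻¹ * a
      map_one' := by simp
      map_mul' := fun a b => by
        show s * ((a : G) * b) * s⁻¹ * (a * b) = s * a * s⁻¹ * a * (s * b * s⁻¹ * b)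
        calc s * ((a : G) * b) * s⁻¹ * (a * b)
            = s * a * s⁻¹ * ((s * b * s⁻¹) * a) * b := by group
          _ = s * a * s⁻¹ * (a * (s * b * s⁻¹)) * b := by rw [hcom _ (hsA b b.2) _ a.2]
          _ = _ := by group }
  set E : Subgroup G := A ⊓ centralizer ({s} : Set G) with hE
  have hrange : d.range ≤ E := by
    rintro _ ⟨a, rfl⟩
    refine ⟨mul_mem (hsA a a.2) a.2, mem_centralizer_singleton_iff.2 ?_⟩
    have hs2 : s * s = 1 := hb.2.1
    have hsi : s⁻¹ = s := inv_eq_of_mul_eq_one_right hs2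
    show s * (a : G) * s⁻¹ * a * s = s * (s * (a : G) * s⁻¹ * a)
    have := hcom _ (hsA a a.2) _ a.2
    rw [hsi] at this ⊢
    calc s * (a : G) * s * a * s = (a : G) * (s * a * s) * s := by rw [this]
      _ = (a : G) * s * a * (s * s) := by group
      _ = (s * s) * a * s * a := by rw [hs2]; group
      _ = _ := by group
  have hker : d.ker = E.subgroupOf A := by
    ext a
    rw [MonoidHom.mem_ker, mem_subgroupOf]
    show s * (a : G) * s⁻¹ * a = 1 ↔ (a : G) ∈ E
    rw [mul_eq_one_iff_eq_inv, inv_eq_of_mul_eq_one_right (hsq a a.2), mul_inv_eq_iff_eq_mul,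
      hE, mem_inf, mem_centralizer_singleton_iff]
    exact ⟨fun h => ⟨a.2, h.symm⟩, fun h => h.2.symm⟩
  have hkercard : Nat.card ↥A = Nat.card ↥E * Nat.card ↥d.range := by
    rw [card_eq_card_quotient_mul_card_subgroup d.ker,
      Nat.card_congr (QuotientGroup.quotientKerEquivRange d).toEquiv, mul_comm, hker,
      Nat.card_congr (subgroupOfEquivOfLe (inf_le_left : E ≤ A)).toEquiv]
  obtain ⟨k, -, hk⟩ := (Nat.dvd_prime_pow Nat.prime_two).1 (hcardA ▸ ⟨_, hkercard⟩ :
    Nat.card ↥E ∣ 2 ^ e)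
  have hE4 : 4 ≤ Nat.card ↥E := by
    have h1 : Nat.card ↥d.range ≤ Nat.card ↥E := card_le_of_le hrange
    have h2 : Nat.card ↥A ≤ Nat.card ↥E * Nat.card ↥E :=
      hkercard.le.trans (Nat.mul_le_mul_left _ h1)
    have h8 := hM.big
    rw [hk] at h2 ⊢
    rcases lt_or_ge k 2 with hk2 | hk2
    · interval_cases k <;> omega
    · exact (Nat.pow_le_pow_right (by norm_num) hk2 : 2 ^ 2 ≤ 2 ^ k)
  have hES : E ≤ (T : Subgroup ↥(centralizer ({s} : Set G))).map
      (centralizer ({s} : Set G)).subtype := by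
    rw [hT]
    exact inf_le_inf_right _ hc.sc.1
  obtain ⟨-, htrans⟩ := hmoved G hG S A M hM _ htop hnle hE4
    ⟨T, hT.le.trans (inf_le_left.trans hc.sylow_le), hES⟩
  -- either `A` centralizes `s` or the order of `A` is a square
  have hAs : A ≤ centralizer ({s} : Set G) := by
    by_contra hne
    obtain ⟨a, haA, hans⟩ := SetLike.not_le_iff_exists.1 hne
    have hda : d ⟨a, haA⟩ ≠ 1 := fun h1 => hans (by
      have : (⟨a, haA⟩ : ↥A) ∈ d.ker := h1
      rw [hker] at this
      exact this.2)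
    have hle : E ≤ d.range := by
      intro y hy
      by_cases hy1 : y = 1
      · rw [hy1]; exact one_mem _
      obtain ⟨g, hgX, hgN, hgy⟩ :=
        htrans (d ⟨a, haA⟩) (hrange ⟨_, rfl⟩) hda y hy hy1
      have hgs : g * s = s * g := mem_centralizer_singleton_iff.1 hgX
      obtain ⟨n, hn, hnX⟩ := hc.ctl (insert s (E : Set G)) g
        (Set.insert_subset hhS fun x hx => hc.sc.1 hx.1) (by
        rintro x (rfl | hx)
        · rw [hgs, mul_inv_cancel_right]; exact hhS
        · exact hc.sc.1 ((mem_normalizer_iff.1 hgN x).1 hx).1)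
      have hns : n * s * n⁻¹ = s := by
        rw [hnX s (Set.mem_insert _ _), hgs, mul_inv_cancel_right]
      have hny : n * (d ⟨a, haA⟩ : G) * n⁻¹ = y := by
        rw [hnX _ (Set.mem_insert_of_mem _ (hrange ⟨_, rfl⟩)), hgy]
      refine ⟨⟨n * a * n⁻¹, (mem_normalizer_iff.1 hn a).1 haA⟩, ?_⟩
      show s * (n * a * n⁻¹) * s⁻¹ * (n * a * n⁻¹) = y
      rw [← hny]
      show s * (n * a * n⁻¹) * s⁻¹ * (n * a * n⁻¹) = n * (s * a * s⁻¹ * a) * n⁻¹
      calc s * (n * a * n⁻¹) * s⁻¹ * (n * a * n⁻¹)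
          = (n * s * n⁻¹) * (n * a * n⁻¹) * (n * s * n⁻¹)⁻¹ * (n * a * n⁻¹) := by rw [hns]
        _ = _ := by group
    have : Nat.card ↥A = Nat.card ↥E * Nat.card ↥E := by
      rw [hkercard, le_antisymm hrange hle]
    rw [hcardA, hk, ← pow_add] at this
    have := Nat.pow_right_injective le_rfl this
    obtain ⟨j, hj⟩ := heodd
    omega
  -- back to `t` inside `M`
  have hfixh : t • ((h⁻¹ : G) : G ⧸ M) = ((h⁻¹ : G) : G ⧸ M) := by
    rw [smul_coset_eq_iff, inv_inv]; exact hsM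
  obtain ⟨c, hct, hco⟩ := htr t ht.1 ht.2.1 _ _ (hbase t htM) hfixh
  have hm : h * c ∈ M := by
    rw [MulAction.Quotient.smul_mk, QuotientGroup.eq, smul_eq_mul, mul_one] at hco
    simpa [mul_inv_rev] using inv_mem hco
  refine ⟨h * c, hm, ?_⟩
  rw [show h * c * t * (h * c)⁻¹ = s by
    rw [hs, mul_assoc h c t, hct, mul_inv_rev]; group]
  exact hAs

end Cfsg.Agent.ThreePrime10
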